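import Groth.Agent.NodeCplFam.Basic
import Groth.Agent.FlatMor.FibreStalk
import Groth.Prelude.Def_CurvBase
import Groth.Prelude.Def_Curv2
import Mathlib.AlgebraicGeometry.Morphisms.FiniteType

/-!
# The completed local ring of a morphism at a point with a given completed fibre
-/

set_option autoImplicit false
set_option linter.style.haveILetI false

universe u

open CategoryTheory AlgebraicGeometry IsLocalRing

noncomputable section

namespace Groth.Agent.NodeCplFam

open Groth.Agent

theorem fromSpecStalk_comp_eq {K : Type u} [Field K] {X : Scheme.{u}} [X.Over (Spec (CommRingCat.of K))] (x : X) :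
    X.fromSpecStalk x ≫ (X ↘ Spec (CommRingCat.of K)) =
      Spec.map (CommRingCat.ofHom (Curv2.stalkMap K X x)) := by
  set π := X ↘ Spec (CommRingCat.of K)
  have h : π = X.toSpecΓ ≫ Spec.map π.appTop ≫ Spec.map (Scheme.ΓSpecIso (CommRingCat.of K)).inv := by
    rw [← Category.assoc, ← Scheme.toSpecΓ_naturality, ← SpecMap_ΓSpecIso_hom, Category.assoc, ← Spec.map_comp, Iso.inv_hom_id,
      Spec.map_id, Category.comp_id]
  rw [h, Scheme.fromSpecStalk_toSpecΓ_assoc, ← Spec.map_comp, ← Spec.map_comp]
  rfl

set_option backward.isDefEq.respectTransparency.types false in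
/-- The local ring of a fibre, with the residue field of the base acting through the fibre. -/
theorem exists_fibre_stalk {X S : Scheme.{u}} (f : X ⟶ S) (x : X) :
    letI : (f.fiber (f x)).Over (Spec (CommRingCat.of (S.residueField (f x)))) := ⟨f.fiberToSpecResidueField (f x)⟩
    ∃ φ : X.presheaf.stalk x →+* (f.fiber (f x)).presheaf.stalk (f.asFiber x),
      Function.Surjective φ ∧
      RingHom.ker φ = (maximalIdeal (S.presheaf.stalk (f x))).map (f.stalkMap x).hom ∧
      ∀ a, φ ((f.stalkMap x).hom a) =
        Curv2.stalkMap (S.residueField (f x)) (f.fiber (f x)) (f.asFiber x) ((S.residue (f x)).hom a) := by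
  have : ∀ (x' : X) (s : S) (y : f.fiber s) (_ : f.fiberι s y = x') (hs : f x' = s),
      letI : (f.fiber s).Over (Spec (CommRingCat.of (S.residueField s))) := ⟨f.fiberToSpecResidueField s⟩
      ∃ φ : X.presheaf.stalk x' →+* (f.fiber s).presheaf.stalk y, Function.Surjective φ ∧
        RingHom.ker φ = (maximalIdeal (S.presheaf.stalk (f x'))).map (f.stalkMap x').hom ∧
        ∀ a, φ ((f.stalkMap x').hom a) = Curv2.stalkMap (S.residueField s) (f.fiber s) y
          ((S.residue s).hom ((S.presheaf.stalkSpecializes (specializes_of_eq hs.symm)).hom a)) := by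
    rintro _ s y rfl hs
    letI : (f.fiber s).Over (Spec (CommRingCat.of (S.residueField s))) := ⟨f.fiberToSpecResidueField s⟩
    refine ⟨((f.fiberι s).stalkMap y).hom, (f.fiberι s).stalkMap_surjective y,
      FlatMor.FibreStalk.ker_stalkMap_fiberι f s y, ?_⟩
    have key : f.stalkMap (f.fiberι s y) ≫ (f.fiberι s).stalkMap y =
        S.presheaf.stalkSpecializes (specializes_of_eq hs.symm) ≫ S.residue s ≫
          CommRingCat.ofHom (Curv2.stalkMap (S.residueField s) (f.fiber s) y) := by
      apply Spec.map_injective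
      rw [← cancel_mono (S.fromSpecStalk (f (f.fiberι s y)))]
      rw [Spec.map_comp, Spec.map_comp, Spec.map_comp, Category.assoc, Category.assoc, Category.assoc,
        Scheme.SpecMap_stalkSpecializes_fromSpecStalk, Scheme.SpecMap_stalkMap_fromSpecStalk,
        Scheme.SpecMap_stalkMap_fromSpecStalk_assoc]
      refine ((congrArg (fun g => (f.fiber s).fromSpecStalk y ≫ g) (f.fiber_fac s)).trans ?_)
      rw [← Category.assoc]
      exact congrArg (· ≫ S.fromSpecResidueField s) (fromSpecStalk_comp_eq (K := S.residueField s) y)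
    intro a
    exact congrArg (fun g => g.hom a) key
  obtain ⟨φ, h1, h2, h3⟩ := this x (f x) (f.asFiber x) (f.fiberι_asFiber x) rfl
  refine ⟨φ, h1, h2, fun a => ?_⟩
  rw [h3 a, show S.presheaf.stalkSpecializes (specializes_of_eq (rfl : f x = f x).symm) = 𝟙 _ from
    TopCat.Presheaf.stalkSpecializes_refl _ _]
  rfl

theorem isNoetherianRing_stalk {X S : Scheme.{u}} (f : X ⟶ S) [LocallyOfFiniteType f] (x : X)
    [IsNoetherianRing (S.presheaf.stalk (f x))] : IsNoetherianRing (X.presheaf.stalk x) := by
  letI := (f.stalkMap x).hom.toAlgebra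
  haveI : Algebra.EssFiniteType (S.presheaf.stalk (f x)) (X.presheaf.stalk x) :=
    RingHom.essFiniteType_algebraMap.mp (LocallyOfFiniteType.stalkMap f x)
  exact Algebra.EssFiniteType.isNoetherianRing (S.presheaf.stalk (f x)) (X.presheaf.stalk x)

set_option backward.isDefEq.respectTransparency.types false in
/-- From the completed fibre to generators of the completion. -/
theorem exists_data {X S : Scheme.{u}} (f : X ⟶ S) [LocallyOfFiniteType f] (x : X)
    [IsNoetherianRing (S.presheaf.stalk (f x))] {n : ℕ} {q : MvPowerSeries (Fin n) (S.residueField (f x))}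
    (hfib : letI : (f.fiber (f x)).Over (Spec (CommRingCat.of (S.residueField (f x)))) := ⟨f.fiberToSpecResidueField (f x)⟩
      ∃ e : Curv2.cpl ((f.fiber (f x)).presheaf.stalk (f.asFiber x)) ≃+*
          (MvPowerSeries (Fin n) (S.residueField (f x)) ⧸ Ideal.span {q}),
        ∀ r, e (algebraMap ((f.fiber (f x)).presheaf.stalk (f.asFiber x)) _
            (Curv2.stalkMap (S.residueField (f x)) (f.fiber (f x)) (f.asFiber x) r)) =
          Ideal.Quotient.mk _ (MvPowerSeries.C r)) :
    letI := (f.stalkMap x).hom.toAlgebra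
    ∃ χ : Curv2.cpl (X.presheaf.stalk x) →+*
        MvPowerSeries (Fin n) (ResidueField (S.presheaf.stalk (f x))) ⧸
          Ideal.span {(q : MvPowerSeries (Fin n) (ResidueField (S.presheaf.stalk (f x))))},
      Function.Surjective χ ∧
      RingHom.ker χ = (maximalIdeal (S.presheaf.stalk (f x))).map
        (algebraMap (S.presheaf.stalk (f x)) (Curv2.cpl (X.presheaf.stalk x))) ∧
      ∀ a, χ (algebraMap (S.presheaf.stalk (f x)) (Curv2.cpl (X.presheaf.stalk x)) a) =
        Ideal.Quotient.mk _ (MvPowerSeries.C (residue (S.presheaf.stalk (f x)) a)) := by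
  letI := (f.stalkMap x).hom.toAlgebra
  letI : (f.fiber (f x)).Over (Spec (CommRingCat.of (S.residueField (f x)))) := ⟨f.fiberToSpecResidueField (f x)⟩
  obtain ⟨e, he⟩ := hfib
  obtain ⟨φ, hφ, hk, hcomp⟩ := exists_fibre_stalk f x
  haveI := isNoetherianRing_stalk f x
  haveI : IsNoetherianRing ((f.fiber (f x)).presheaf.stalk (f.asFiber x)) :=
    isNoetherianRing_of_surjective _ _ φ hφ
  obtain ⟨χ, h1, h2, h3⟩ := exists_fibre_map φ hφ hk e
  refine ⟨χ, h1, h2, fun a => ?_⟩
  rw [IsScalarTower.algebraMap_apply (S.presheaf.stalk (f x)) (X.presheaf.stalk x) (Curv2.cpl (X.presheaf.stalk x)), h3]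
  erw [hcomp a]
  exact he _

end Groth.Agent.NodeCplFam
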