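import Groth.Agent.NodeCompl.Flat
import Groth.Agent.Hensel.Completion
import Groth.Agent.NodeInv70.Fibre
import Groth.Agent.QuadMorse.Filt

/-!
# Completions of flat local algebras with a given completed closed fibre
-/

set_option autoImplicit false
set_option linter.style.haveILetI false

universe u

open IsLocalRing

noncomputable section

namespace Groth.Agent.NodeCplFam

open Groth.Agent

variable {A B : Type u} [CommRing A] [IsLocalRing A] [IsNoetherianRing A]
  [CommRing B] [IsLocalRing B] [IsNoetherianRing B] [Algebra A B]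


variable (n : ℕ)

/-- The completion of the fibre is the completion modulo the maximal ideal of the base. -/
theorem exists_fibre_map {C Q : Type u} [CommRing C] [IsLocalRing C] [IsNoetherianRing C] [CommRing Q]
    (φ : B →+* C) (hφ : Function.Surjective φ)
    (hkφ : RingHom.ker φ = (maximalIdeal A).map (algebraMap A B))
    (e : AdicCompletion (maximalIdeal C) C ≃+* Q) :
    ∃ χ : (AdicCompletion (maximalIdeal B) B) →+* Q, Function.Surjective χ ∧
      RingHom.ker χ = (maximalIdeal A).map (algebraMap A (AdicCompletion (maximalIdeal B) B)) ∧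
      ∀ b, χ (algebraMap B (AdicCompletion (maximalIdeal B) B) b) = e (algebraMap C _ (φ b)) := by
  set P := (maximalIdeal A).map (algebraMap A B) with hP
  haveI : Nontrivial (B ⧸ P) := Ideal.Quotient.nontrivial_iff.mpr (hkφ ▸ RingHom.ker_ne_top φ)
  haveI : IsLocalRing (B ⧸ P) := IsLocalRing.of_surjective' (Ideal.Quotient.mk P) Ideal.Quotient.mk_surjective
  let eC : (B ⧸ P) ≃+* C := (Ideal.quotEquivOfEq hkφ.symm).trans (RingHom.quotientKerEquivOfSurjective hφ)
  obtain ⟨ι⟩ := Hensel.nonempty_quotient_completion_equiv B P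
  obtain ⟨χ₀, hχ₀, hc⟩ := NodeCompl.exists_cpl_surjective_of_surjective B C φ hφ
  obtain ⟨θ, hθ, -⟩ := NodeCompl.exists_cpl_surjective_of_surjective C (B ⧸ P) eC.symm.toRingHom eC.symm.surjective
  have hmap : P.map (algebraMap B (AdicCompletion (maximalIdeal B) B)) = (maximalIdeal A).map (algebraMap A (AdicCompletion (maximalIdeal B) B)) := by
    rw [hP, Ideal.map_map, ← IsScalarTower.algebraMap_eq]
  have hkill : ∀ z ∈ P.map (algebraMap B (AdicCompletion (maximalIdeal B) B)), χ₀ z = 0 := by
    intro z hz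
    refine RingHom.mem_ker.mp ((Ideal.map_le_iff_le_comap.mpr fun b hb => ?_) hz)
    have h0 : φ b = 0 := RingHom.mem_ker.mp (by rw [hkφ]; exact hb)
    rw [Ideal.mem_comap, RingHom.mem_ker, hc, h0, map_zero]
  let χ₁ := Ideal.Quotient.lift _ χ₀ hkill
  have hs : Function.Surjective χ₁ := fun y => by
    obtain ⟨z, hz⟩ := hχ₀ y
    exact ⟨Ideal.Quotient.mk _ z, hz⟩
  haveI : IsNoetherianRing (AdicCompletion (maximalIdeal C) C) :=
    RegLoc.Completion.isNoetherianRing_adicCompletion' _
  have hinj := ArtFunLib.injective_of_surjective_ringEnd (χ₁.comp (ι.toRingHom.comp θ))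
    (hs.comp (ι.surjective.comp hθ))
  refine ⟨e.toRingHom.comp χ₀, e.surjective.comp hχ₀, ?_, fun b => congrArg e (hc b)⟩
  rw [← hmap]
  refine le_antisymm (fun z hz => ?_) (fun z hz => by
    rw [RingHom.mem_ker, RingHom.comp_apply, hkill z hz, map_zero])
  obtain ⟨w, hw⟩ := (ι.surjective.comp hθ) (Ideal.Quotient.mk _ z)
  have h1 : χ₁ (ι (θ w)) = 0 := by
    rw [show ι (θ w) = Ideal.Quotient.mk _ z from hw]
    exact e.injective ((RingHom.mem_ker.mp hz).trans (map_zero _).symm)
  have h2 : w = 0 := hinj (h1.trans (map_zero _).symm)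
  subst h2
  rw [← Ideal.Quotient.eq_zero_iff_mem, ← hw]
  simp

section Model

variable {K : Type u} [Field K] {n} (q : MvPowerSeries (Fin n) K)

theorem not_isUnit_mk_X (hq0 : MvPowerSeries.constantCoeff q = 0) (i : Fin n) :
    ¬ IsUnit (Ideal.Quotient.mk (Ideal.span {q}) (MvPowerSeries.X i)) := by
  intro h
  obtain ⟨y, hy⟩ := h.exists_right_inv
  obtain ⟨y, rfl⟩ := Ideal.Quotient.mk_surjective y
  rw [← map_mul, ← map_one (Ideal.Quotient.mk _), Ideal.Quotient.eq, Ideal.mem_span_singleton] at hy
  obtain ⟨w, hw⟩ := hy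
  have := congrArg MvPowerSeries.constantCoeff hw
  simp [hq0] at this

theorem nontrivial_model (hq0 : MvPowerSeries.constantCoeff q = 0) :
    Nontrivial (MvPowerSeries (Fin n) K ⧸ Ideal.span {q}) := by
  refine Ideal.Quotient.nontrivial_iff.mpr fun h => ?_
  rw [Ideal.eq_top_iff_one, Ideal.mem_span_singleton] at h
  obtain ⟨w, hw⟩ := h
  have := congrArg MvPowerSeries.constantCoeff hw
  simp [hq0] at this

theorem sub_const_mem [Nontrivial (MvPowerSeries (Fin n) K ⧸ Ideal.span {q})] (f : MvPowerSeries (Fin n) K) :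
    Ideal.Quotient.mk (Ideal.span {q}) f - Ideal.Quotient.mk (Ideal.span {q})
        (MvPowerSeries.C (MvPowerSeries.constantCoeff f)) ∈
      Ideal.span (Set.range fun i => Ideal.Quotient.mk (Ideal.span {q}) (MvPowerSeries.X i)) := by
  have e : f - MvPowerSeries.C (MvPowerSeries.constantCoeff f) =
      ∑ j, MvPowerSeries.X j * QuadMorse.div j f := by
    rw [sub_eq_iff_eq_add']
    exact QuadMorse.decomp f
  rw [← map_sub, e, map_sum]
  exact Ideal.sum_mem _ fun j _ => by
    rw [map_mul]
    exact Ideal.mul_mem_right _ _ (Ideal.subset_span ⟨j, rfl⟩)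

/-- Two maps from power series into a Noetherian local ring agreeing on constants and variables agree. -/
theorem ringHom_ext {R T : Type u} [CommRing R] [CommRing T] [IsLocalRing T] [IsNoetherianRing T]
    (α β : MvPowerSeries (Fin n) R →+* T) (hC : ∀ c, α (MvPowerSeries.C c) = β (MvPowerSeries.C c))
    (hX : ∀ i, α (MvPowerSeries.X i) = β (MvPowerSeries.X i))
    (hm : ∀ i, α (MvPowerSeries.X i) ∈ maximalIdeal T) : α = β := by
  have key : ∀ (N : ℕ) (f : MvPowerSeries (Fin n) R), α f - β f ∈ maximalIdeal T ^ N := by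
    intro N
    induction N with
    | zero => intro f; simp
    | succ N ih =>
      intro f
      conv => congr; · skip
              rw [QuadMorse.decomp f]
      simp only [map_add, map_sum, map_mul, hC, add_sub_add_left_eq_sub, ← Finset.sum_sub_distrib,
        ← hX, ← mul_sub, pow_succ']
      exact Submodule.sum_mem _ fun j _ => Submodule.mul_mem_mul (hm j) (ih _)
  refine RingHom.ext fun f => sub_eq_zero.mp ?_
  have := Ideal.iInf_pow_eq_bot_of_isLocalRing (maximalIdeal T) (maximalIdeal.isMaximal T).ne_top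
  exact (Submodule.mem_bot T).1 (this ▸ Submodule.mem_iInf _ |>.2 fun N => key N f)

variable {q}

variable [IsLocalHom (algebraMap A B)] {q₁ : MvPowerSeries (Fin n) (ResidueField A)}
  (hq0 : MvPowerSeries.constantCoeff q₁ = 0)
  (χ : (AdicCompletion (maximalIdeal B) B) →+* MvPowerSeries (Fin n) (ResidueField A) ⧸ Ideal.span {q₁}) (hχ : Function.Surjective χ)
  (hχk : RingHom.ker χ = (maximalIdeal A).map (algebraMap A (AdicCompletion (maximalIdeal B) B)))
  (hχA : ∀ a : A, χ (algebraMap A (AdicCompletion (maximalIdeal B) B) a) = Ideal.Quotient.mk _ (MvPowerSeries.C (residue A a)))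

include hq0 hχ in
theorem mem_maximalIdeal_of_not_isUnit {b : (AdicCompletion (maximalIdeal B) B)} (h : ¬ IsUnit (χ b)) : b ∈ maximalIdeal (AdicCompletion (maximalIdeal B) B) :=
  fun hu => h (hu.map χ)

include hq0 hχ in
theorem maximalIdeal_eq (b : Fin n → (AdicCompletion (maximalIdeal B) B)) (hb : ∀ i, χ (b i) = Ideal.Quotient.mk _ (MvPowerSeries.X i)) :
    maximalIdeal (AdicCompletion (maximalIdeal B) B) = Ideal.span (Set.range b) ⊔ RingHom.ker χ := by
  haveI := nontrivial_model q₁ hq0
  refine le_antisymm (fun z hz => ?_) (sup_le ?_ ?_)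
  · obtain ⟨f, hf⟩ := Ideal.Quotient.mk_surjective (χ z)
    have hmap : Ideal.span (Set.range fun i => Ideal.Quotient.mk (Ideal.span {q₁}) (MvPowerSeries.X i)) =
        (Ideal.span (Set.range b)).map χ := by
      rw [Ideal.map_span, ← Set.range_comp]
      exact congrArg (fun v => Ideal.span (Set.range v)) (funext fun i => (hb i).symm)
    have hc : MvPowerSeries.constantCoeff f = 0 := by
      by_contra hne
      have hu : IsUnit (χ z) := by
        rw [← hf]
        exact (MvPowerSeries.isUnit_iff_constantCoeff.mpr (isUnit_iff_ne_zero.mpr hne)).map _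
      haveI := IsLocalHom.of_surjective χ hχ
      exact hz (isUnit_of_map_unit χ z hu)
    have h1 := sub_const_mem q₁ f
    rw [hc, map_zero, map_zero, sub_zero, hf, hmap] at h1
    have h2 : z ∈ ((Ideal.span (Set.range b)).map χ).comap χ := h1
    rwa [Ideal.comap_map_of_surjective _ hχ, ← RingHom.ker_eq_comap_bot] at h2
  · rw [Ideal.span_le]
    rintro _ ⟨i, rfl⟩
    exact mem_maximalIdeal_of_not_isUnit hq0 χ hχ (hb i ▸ not_isUnit_mk_X q₁ hq0 i)
  · exact le_maximalIdeal (RingHom.ker_ne_top χ)

omit [IsNoetherianRing A] in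
instance isLocalHom_cpl : IsLocalHom (algebraMap A (AdicCompletion (maximalIdeal B) B)) := by
  rw [IsScalarTower.algebraMap_eq A B (AdicCompletion (maximalIdeal B) B)]
  infer_instance

include hq0 hχ hχA in
theorem residue_bijective :
    Function.Bijective (ResidueField.map (algebraMap A (AdicCompletion (maximalIdeal B) B))) := by
  haveI := nontrivial_model q₁ hq0
  refine ⟨(ResidueField.map (algebraMap A (AdicCompletion (maximalIdeal B) B))).injective, fun r => ?_⟩
  obtain ⟨z, rfl⟩ := residue_surjective r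
  obtain ⟨f, hf⟩ := Ideal.Quotient.mk_surjective (χ z)
  obtain ⟨a, ha⟩ := residue_surjective (MvPowerSeries.constantCoeff f)
  refine ⟨residue A a, ?_⟩
  rw [IsLocalRing.ResidueField.map_residue]
  refine (Ideal.Quotient.eq.mpr ?_).symm
  refine mem_maximalIdeal_of_not_isUnit hq0 χ hχ ?_
  rw [map_sub, hχA, ha, ← hf, ← map_sub]
  rintro hu
  obtain ⟨y, hy⟩ := hu.exists_right_inv
  obtain ⟨y, rfl⟩ := Ideal.Quotient.mk_surjective y
  rw [← map_mul, ← map_one (Ideal.Quotient.mk _), Ideal.Quotient.eq, Ideal.mem_span_singleton] at hy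
  obtain ⟨w, hw⟩ := hy
  have := congrArg MvPowerSeries.constantCoeff hw
  simp [hq0] at this

variable (ψ : MvPowerSeries (Fin n) (AdicCompletion (maximalIdeal A) A) →+* (AdicCompletion (maximalIdeal B) B))
  (hψC : ∀ a : A, ψ (MvPowerSeries.C (algebraMap A (AdicCompletion (maximalIdeal A) A) a)) = algebraMap A (AdicCompletion (maximalIdeal B) B) a)
  (hψX : ∀ i, χ (ψ (MvPowerSeries.X i)) = Ideal.Quotient.mk _ (MvPowerSeries.X i))

include hq0 hχk hχA hψC hψX in
theorem comm (f : MvPowerSeries (Fin n) (AdicCompletion (maximalIdeal A) A)) :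
    χ (ψ f) = Ideal.Quotient.mk _ (MvPowerSeries.map (NodeCompl.cplResidue A) f) := by
  haveI := nontrivial_model q₁ hq0
  haveI : IsLocalRing (MvPowerSeries (Fin n) (ResidueField A) ⧸ Ideal.span {q₁}) :=
    IsLocalRing.of_surjective' (Ideal.Quotient.mk _) Ideal.Quotient.mk_surjective
  haveI : IsNoetherianRing (MvPowerSeries (Fin n) (ResidueField A)) := MvPowerSeries.isNoetherianRing _
  refine RingHom.congr_fun (ringHom_ext (χ.comp ψ)
    ((Ideal.Quotient.mk _).comp (MvPowerSeries.map (NodeCompl.cplResidue A))) (fun c => ?_) (fun i => ?_)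
    (fun i => ?_)) f
  · obtain ⟨a, ha⟩ := residue_surjective (NodeCompl.cplResidue A c)
    have hca : NodeCompl.cplResidue A (algebraMap A (AdicCompletion (maximalIdeal A) A) a) = residue A a :=
      AlgHom.commutes (AdicCompletion.evalOneₐ (maximalIdeal A)) a
    have hd : c - algebraMap A (AdicCompletion (maximalIdeal A) A) a ∈ (maximalIdeal A).map (algebraMap A (AdicCompletion (maximalIdeal A) A)) := by
      rw [← NodeCompl.ker_cplResidue, RingHom.mem_ker, map_sub, hca, ha, sub_self]
    have hd2 : χ (ψ (MvPowerSeries.C (c - algebraMap A (AdicCompletion (maximalIdeal A) A) a))) = 0 := by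
      refine RingHom.mem_ker.mp ?_
      rw [hχk]
      have h1 := Ideal.mem_map_of_mem (ψ.comp (MvPowerSeries.C (σ := Fin n))) hd
      rw [Ideal.map_map] at h1
      exact (le_of_eq (congrArg (fun g => (maximalIdeal A).map g) (RingHom.ext hψC))) h1
    rw [map_sub, map_sub, map_sub, sub_eq_zero] at hd2
    rw [RingHom.comp_apply, hd2, hψC, hχA, RingHom.comp_apply, MvPowerSeries.map_C, ha]
  · simp [hψX]
  · rw [RingHom.comp_apply, hψX]
    exact not_isUnit_mk_X q₁ hq0 i

include hq0 hχ hχk hχA in
/-- Power series generators of the completion. -/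
theorem exists_psi :
    ∃ ψ : MvPowerSeries (Fin n) (AdicCompletion (maximalIdeal A) A) →+* (AdicCompletion (maximalIdeal B) B), Function.Surjective ψ ∧
      (∀ a : A, ψ (MvPowerSeries.C (algebraMap A (AdicCompletion (maximalIdeal A) A) a)) = algebraMap A (AdicCompletion (maximalIdeal B) B) a) ∧
      ∀ i, χ (ψ (MvPowerSeries.X i)) = Ideal.Quotient.mk _ (MvPowerSeries.X i) := by
  obtain ⟨_, hT, -⟩ := EGA4Lib.exists_algebra_cpl A B
  haveI := hT
  choose b hb using fun i : Fin n => hχ (Ideal.Quotient.mk _ (MvPowerSeries.X i))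
  haveI : IsNoetherianRing (AdicCompletion (maximalIdeal A) A) := RegLoc.Completion.isNoetherianRing_adicCompletion' _
  haveI : IsNoetherianRing (AdicCompletion (maximalIdeal B) B) := RegLoc.Completion.isNoetherianRing_adicCompletion' _
  have hmax := maximalIdeal_eq hq0 χ hχ b hb
  obtain ⟨ψ, hψ⟩ := CAlg48.PSEval.exists_algHom (k := (AdicCompletion (maximalIdeal A) A)) (maximalIdeal (AdicCompletion (maximalIdeal B) B)) b fun i => by
    rw [hmax]; exact Ideal.mem_sup_left (Ideal.subset_span ⟨i, rfl⟩)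
  have hψC : ∀ a : A, ψ (MvPowerSeries.C (algebraMap A (AdicCompletion (maximalIdeal A) A) a)) = algebraMap A (AdicCompletion (maximalIdeal B) B) a := fun a => by
    have h1 := ψ.commutes (algebraMap A (AdicCompletion (maximalIdeal A) A) a)
    rw [MvPowerSeries.algebraMap_apply, ← IsScalarTower.algebraMap_apply A (AdicCompletion (maximalIdeal A) A) (AdicCompletion (maximalIdeal B) B)] at h1
    simpa using h1
  refine ⟨ψ.toRingHom, ?_, hψC, fun i => (congrArg χ (hψ i)).trans (hb i)⟩
  haveI := ArtFunLib.isAdicComplete_ps (σ := Fin n) (C := (AdicCompletion (maximalIdeal A) A))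
  have hM : (maximalIdeal (AdicCompletion (maximalIdeal A) A)).map (algebraMap (AdicCompletion (maximalIdeal A) A) (AdicCompletion (maximalIdeal B) B)) = RingHom.ker χ := by
    rw [AdicCompletion.maximalIdeal_eq_map (R := A), Ideal.map_map, ← IsScalarTower.algebraMap_eq, hχk]
  have himg : (maximalIdeal (MvPowerSeries (Fin n) (AdicCompletion (maximalIdeal A) A))).map (ψ : MvPowerSeries (Fin n) (AdicCompletion (maximalIdeal A) A) →+* (AdicCompletion (maximalIdeal B) B)) =
      maximalIdeal (AdicCompletion (maximalIdeal B) B) := by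
    rw [ArtFunLib.maximalIdeal_ps_eq, Ideal.map_sup, Ideal.map_map, ψ.comp_algebraMap, hM,
      Ideal.map_span, hmax, sup_comm, ← Set.range_comp]
    congr 3
    exact funext hψ
  refine PSLoc.surjective_of_cotangent (maximalIdeal (MvPowerSeries (Fin n) (AdicCompletion (maximalIdeal A) A)))
    (ψ : MvPowerSeries (Fin n) (AdicCompletion (maximalIdeal A) A) →+* (AdicCompletion (maximalIdeal B) B)) himg.le (le_sup_left.trans' himg.ge) fun r => ?_
  obtain ⟨c, rfl⟩ := (residue_bijective hq0 χ hχ hχA).2 r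
  obtain ⟨a, rfl⟩ := residue_surjective c
  refine ⟨MvPowerSeries.C (algebraMap A (AdicCompletion (maximalIdeal A) A) a), ?_⟩
  rw [RingHom.comp_apply, RingHom.coe_coe, hψC, IsLocalRing.ResidueField.map_residue]

include hq0 hχk hχA hψC hψX in
theorem exists_relation (hψ : Function.Surjective ψ) :
    ∃ F : MvPowerSeries (Fin n) (AdicCompletion (maximalIdeal A) A), ψ F = 0 ∧ MvPowerSeries.map (NodeCompl.cplResidue A) F = q₁ := by
  obtain ⟨F₀, hF₀⟩ := NodeCompl.map_surjective A q₁
  have h1 : χ (ψ F₀) = 0 := by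
    rw [comm hq0 χ hχk hχA ψ hψC hψX, hF₀, Ideal.Quotient.eq_zero_iff_mem]
    exact Ideal.mem_span_singleton_self _
  have h2 : ψ F₀ ∈ ((maximalIdeal A).map (algebraMap A (MvPowerSeries (Fin n) (AdicCompletion (maximalIdeal A) A)))).map ψ := by
    rw [← RingHom.mem_ker, hχk] at h1
    rw [Ideal.map_map]
    refine (le_of_eq (congrArg (fun g => (maximalIdeal A).map g) (RingHom.ext fun a => ?_))) h1
    rw [RingHom.comp_apply, MvPowerSeries.algebraMap_apply, hψC]
  obtain ⟨w, hw, hwe⟩ := (Ideal.mem_map_iff_of_surjective ψ hψ).mp h2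
  rw [← NodeCompl.ker_map, RingHom.mem_ker] at hw
  exact ⟨F₀ - w, by rw [map_sub, hwe, sub_self], by rw [map_sub, hw, sub_zero, hF₀]⟩

include hq0 hχk hχA hψC hψX in
/-- A flat algebra with completed fibre `k[[x]]/(q)` is `(AdicCompletion (maximalIdeal A) A)[[x]]/(F)` for any lift `F` in the kernel. -/
theorem ker_eq [Module.Flat A B] (hψ : Function.Surjective ψ) {F : MvPowerSeries (Fin n) (AdicCompletion (maximalIdeal A) A)} (hF : ψ F = 0)
    (hFq : MvPowerSeries.map (NodeCompl.cplResidue A) F = q₁) : RingHom.ker ψ = Ideal.span {F} := by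
  haveI : IsNoetherianRing (AdicCompletion (maximalIdeal A) A) := RegLoc.Completion.isNoetherianRing_adicCompletion' _
  haveI : IsNoetherianRing (MvPowerSeries (Fin n) (AdicCompletion (maximalIdeal A) A)) := MvPowerSeries.isNoetherianRing _
  haveI : Module.Flat A (AdicCompletion (maximalIdeal B) B) := Module.Flat.trans A B _
  let ψ' : MvPowerSeries (Fin n) (AdicCompletion (maximalIdeal A) A) →ₐ[A] (AdicCompletion (maximalIdeal B) B) := AlgHom.mk ψ fun a => by
    show ψ (algebraMap A (MvPowerSeries (Fin n) (AdicCompletion (maximalIdeal A) A)) a) = _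
    rw [MvPowerSeries.algebraMap_apply, hψC]
  refine le_antisymm ?_ ((Ideal.span_singleton_le_iff_mem _).2 (RingHom.mem_ker.2 hF))
  set I := (maximalIdeal A).map (algebraMap A (MvPowerSeries (Fin n) (AdicCompletion (maximalIdeal A) A))) with hI
  refine Submodule.le_of_le_smul_of_le_jacobson_bot (I := I) (IsNoetherian.noetherian _)
    ((le_maximalIdeal ?_).trans (maximalIdeal_le_jacobson _)) fun f hf => ?_
  · rw [hI, ← NodeCompl.ker_map]
    exact RingHom.ker_ne_top _
  have hf0 := comm hq0 χ hχk hχA ψ hψC hψX f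
  rw [RingHom.mem_ker.1 hf, map_zero, eq_comm, Ideal.Quotient.eq_zero_iff_mem, Ideal.mem_span_singleton] at hf0
  obtain ⟨w, hw⟩ := hf0
  obtain ⟨wt, hwt⟩ := NodeCompl.map_surjective A w
  have h1 : f - F * wt ∈ I := by
    rw [hI, ← NodeCompl.ker_map, RingHom.mem_ker, map_sub, map_mul, hFq, hwt, ← hw, sub_self]
  have h2 : f - F * wt ∈ RingHom.ker ψ' := by
    rw [RingHom.mem_ker]
    show ψ (f - F * wt) = 0
    rw [map_sub, map_mul, hF, zero_mul, RingHom.mem_ker.1 hf, sub_zero]
  have h3 := NodeInv70.ker_inf_smul_le ψ' hψ (maximalIdeal A) h2 h1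
  rw [← add_sub_cancel (F * wt) f]
  exact Submodule.add_mem_sup (Ideal.mul_mem_right _ _ (Ideal.mem_span_singleton_self F)) h3

end Model

end Groth.Agent.NodeCplFam
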